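import Mathlib
import Cfsg.Prelude.Def_LieExceptional
import Cfsg.Prelude.Def_ChevStructure
import Cfsg.Agent.Lib.helper8.ChevW0

/-!
Project UNI (S2314: the number of `p`-elements of a Chevalley group is `q ^ (2N)`):
definitions shared by all rows.
-/

set_option autoImplicit false

namespace Cfsg.Agent.Lib.Helper5.UNI

variable {G : Type*} [Group G]

/-- `relFix X Y g`: the number of cosets `x Y` with `x ∈ X` fixed by `g` (meant for `Y ≤ X`,
`g ∈ X`: the value at `g` of the permutation character of `X` on `X ⧸ Y`) -/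
noncomputable def relFix (X Y : Subgroup G) (g : G) : ℕ :=
  Nat.card {c : G ⧸ Y // g • c = c ∧ ∃ x ∈ X, c = ((x : G) : G ⧸ Y)}

/-- `g` is a `p`-element -/
def IsPElt (p : ℕ) (g : G) : Prop := ∃ k : ℕ, orderOf g = p ^ k

/-- the group `N_J` of the (B,N)-pair of the parabolic subgroup `P.parabolic J` -/
def subN (P : Cfsg.BNPair G) (J : Set G) : Subgroup G := Subgroup.closure J ⊔ (P.B ⊓ P.N)

open Classical in
/-- the sum of `f` over the elements of `X` satisfying `Q` -/
noncomputable def sumOver [Fintype G] (X : Subgroup G) (Q : G → Prop) (f : G → ℤ) : ℤ :=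
  ∑ g : G, if g ∈ X ∧ Q g then f g else 0

/-- the alternating sum `τ_J` of the relative fixed point numbers over the parabolics below `P_J` -/
noncomputable def relSt (Q : Finset ℕ → Subgroup G) (J : Finset ℕ) (g : G) : ℤ :=
  ∑ K ∈ J.powerset, (-1 : ℤ) ^ K.card * (relFix (Q J) (Q K) g : ℤ)

open Cfsg.Lie in
/-- table check: every coroot vector has `rank` entries, the coroot vector of the `j`-th
fundamental root is the `j`-th unit vector, and the coroot vector of `-r` is minus that of `r` -/
def uniTabChk (D : ChevalleyDatum) : Bool :=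
  ((List.range D.nroots).all fun r => decide ((D.coroot.getD r #[]).size = D.rank)) &&
  ((List.range D.rank).all fun j => (List.range D.rank).all fun i =>
    decide ((D.coroot.getD (D.simple j) #[]).getD i 0 = if i = j then 1 else 0)) &&
  ((List.range D.nroots).all fun r => (List.range D.rank).all fun i =>
    decide ((D.coroot.getD (D.negIdx.getD r 0) #[]).getD i 0 = - (D.coroot.getD r #[]).getD i 0))

open Cfsg.Lie Cfsg.Agent.Lib.helper8 in
/-- the number of positive roots of `Φ_J` sent to negative roots by the word `w` -/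
noncomputable def invCount (D : ChevalleyDatum) (J : Set ℕ) (w : List ℕ) : ℕ :=
  Nat.card {s : ℕ // D.IsPosRoot s ∧ D.InRootSub J s ∧ D.IsNegRoot (h8sW D w s)}

open Cfsg.Lie Cfsg.Agent.Lib.helper8 in
/-- `w` is a word in the letters of `J` whose root permutation (and that of the reversed word)
exchanges the positive and the negative roots of `Φ_J`: a longest word of `W_J` -/
def IsLongWord (D : ChevalleyDatum) (J : Set ℕ) (w : List ℕ) : Prop :=
  (∀ i ∈ w, i < D.rank ∧ i ∈ J) ∧
  (∀ s, D.IsPosRoot s → D.InRootSub J s → D.IsNegRoot (h8sW D w s)) ∧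
  (∀ s, D.IsNegRoot s → D.InRootSub J s → D.IsPosRoot (h8sW D w s)) ∧
  (∀ s, D.IsPosRoot s → D.InRootSub J s → D.IsNegRoot (h8sW D w.reverse s)) ∧
  (∀ s, D.IsNegRoot s → D.InRootSub J s → D.IsPosRoot (h8sW D w.reverse s))

end Cfsg.Agent.Lib.Helper5.UNI
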